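import Cfsg.Agent.Lib.ToddCox.Glue
set_option autoImplicit false
set_option maxRecDepth 100000
namespace Cfsg.Agent.Lib.ToddCox.Fi22C5
def E_0 : ℕ := 0x41000001000001040000040000040c00001000001030000040000040800001000001020000040000031000000c00000c40000030000030c00000c00000c30000030000021000000800000840000020000020400000800000810000020000010800000400000420000010000010400000400000410000010000000c00000000000030000000000000800000000000020000000000000400000000000010000000000030400001000001010000030000020800000c00000c20000020000010c0000080000083000001000000100000040000044000000
end Cfsg.Agent.Lib.ToddCox.Fi22C5
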